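import Mathlib
import Groth.Prelude.Def_W4c5qcohlocdualityLoc

/-!
Objects all of whose subquotients are orthogonal (`Hom` and `Ext¹`) to a fixed object form a
localizing class in a Grothendieck abelian category.
-/

universe w v u

open CategoryTheory CategoryTheory.Limits ZeroObject

namespace Groth.Agent.GabLocLib

variable {C : Type u} [Category.{v} C] [Abelian C] [IsGrothendieckAbelian.{w} C]

attribute [local instance] IsFiltered.isConnected

/-- A morphism out of a filtered colimit which is termwise mono is mono. -/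
theorem mono_desc {J : Type w} [SmallCategory J] [IsFiltered J] {F : J ⥤ C} {c : Cocone F}
    (hc : IsColimit c) {Y : C} (g : c.pt ⟶ Y) (h : ∀ j, Mono (c.ι.app j ≫ g)) : Mono g := by
  let α : F ⟶ (Functor.const J).obj Y :=
    { app := fun j => c.ι.app j ≫ g
      naturality := fun i j f => by
        dsimp
        rw [Category.comp_id, ← Category.assoc, c.w] }
  haveI : ∀ j, Mono (α.app j) := h
  haveI := NatTrans.mono_of_mono_app α
  exact colim.map_mono' α hc (isColimitConstCocone J Y) g (fun j => (Category.comp_id (c.ι.app j ≫ g)).symm)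

/-- In a Grothendieck abelian category the kernel of a map out of a filtered colimit is the colimit
of the termwise kernels. -/
theorem exists_colimit_kernel {J : Type w} [SmallCategory J] [IsFiltered J] {F : J ⥤ C}
    {c : Cocone F} (hc : IsColimit c) {Y : C} (q : c.pt ⟶ Y) :
    ∃ (K : J ⥤ C) (i : K ⟶ F) (d : Cocone K) (_ : IsColimit d) (e : d.pt ≅ kernel q),
      (∀ j, Mono (i.app j)) ∧ ∀ j, d.ι.app j ≫ e.hom ≫ kernel.ι q = i.app j ≫ c.ι.app j := by
  let φ : F ⟶ (Functor.const J).obj Y :=
    { app := fun j => c.ι.app j ≫ q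
      naturality := fun i j f => by
        dsimp
        rw [Category.comp_id, ← Category.assoc, c.w] }
  let S : ShortComplex (J ⥤ C) := ShortComplex.mk (kernel.ι φ) φ (kernel.condition φ)
  have hS : S.Exact := ShortComplex.exact_of_f_is_kernel S (kernelIsKernel φ)
  have hS' : (S.map colim).Exact := hS.map colim
  haveI : Mono (S.map colim).f := by
    show Mono (colim.map (kernel.ι φ))
    infer_instance
  let e2 : colimit F ≅ c.pt := IsColimit.coconePointUniqueUpToIso (colimit.isColimit F) hc
  let e3 : colimit ((Functor.const J).obj Y) ≅ Y :=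
    IsColimit.coconePointUniqueUpToIso (colimit.isColimit _) (isColimitConstCocone J Y)
  let f' : colimit (kernel φ) ⟶ c.pt := colimMap (kernel.ι φ) ≫ e2.hom
  have h2 : e2.hom ≫ q = colimMap φ ≫ e3.hom := colimit.hom_ext fun j => by
    rw [← Category.assoc, ← Category.assoc, ι_colimMap]
    show (colimit.ι F j ≫ e2.hom) ≫ q = (φ.app j ≫ colimit.ι _ j) ≫ e3.hom
    rw [show colimit.ι F j ≫ e2.hom = c.ι.app j from
      IsColimit.comp_coconePointUniqueUpToIso_hom (colimit.isColimit F) hc j, Category.assoc,
      show colimit.ι _ j ≫ e3.hom = (constCocone J Y).ι.app j from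
      IsColimit.comp_coconePointUniqueUpToIso_hom (colimit.isColimit _) (isColimitConstCocone J Y) j]
    simp [φ]
  have hw : f' ≫ q = 0 := by
    rw [Category.assoc, h2, ← Category.assoc]
    have := (S.map colim).zero
    change colimMap (kernel.ι φ) ≫ colimMap φ = 0 at this
    rw [this, zero_comp]
  let T : ShortComplex C := ShortComplex.mk f' q hw
  have eT : S.map colim ≅ T :=
    ShortComplex.isoMk (Iso.refl _) e2 e3 (Category.id_comp _) h2
  have hT : T.Exact := ShortComplex.exact_of_iso eT hS'
  haveI : Mono (colimMap (kernel.ι φ)) := (inferInstance : Mono (S.map colim).f)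
  haveI : Mono T.f := by
    show Mono (colimMap (kernel.ι φ) ≫ e2.hom)
    infer_instance
  refine ⟨kernel φ, kernel.ι φ, colimit.cocone _, colimit.isColimit _,
    IsLimit.conePointUniqueUpToIso hT.fIsKernel (limit.isLimit (parallelPair q 0)), fun j => inferInstance,
    fun j => ?_⟩
  have := IsLimit.conePointUniqueUpToIso_hom_comp hT.fIsKernel (limit.isLimit (parallelPair q 0))
    WalkingParallelPair.zero
  refine (congrArg (fun t => colimit.ι (kernel φ) j ≫ t) this).trans ?_
  show colimit.ι (kernel φ) j ≫ colimMap (kernel.ι φ) ≫ e2.hom = _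
  rw [← Category.assoc, ι_colimMap, Category.assoc]
  exact congrArg (fun t => (kernel.ι φ).app j ≫ t)
    (IsColimit.comp_coconePointUniqueUpToIso_hom (colimit.isColimit F) hc j)

/-- `Hom(A, M) = 0` and every map to `I/M` lifts to `I` (`I` the chosen injective containing `M`). -/
def Orth (M A : C) : Prop :=
  (∀ f : A ⟶ M, f = 0) ∧
    ∀ h : A ⟶ cokernel (Injective.ι M), ∃ g : A ⟶ Injective.under M,
      g ≫ cokernel.π (Injective.ι M) = h

theorem eq_zero_of_comp_π {M A : C} (hA : ∀ f : A ⟶ M, f = 0) (g : A ⟶ Injective.under M)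
    (h : g ≫ cokernel.π (Injective.ι M) = 0) : g = 0 := by
  rw [← Abelian.monoLift_comp (Injective.ι M) g h, hA (Abelian.monoLift _ g h), zero_comp]

theorem orth_of_isClosedFor {P : ObjectProperty C} {M : C} (hM : GabLoc.IsClosedFor P M) {A : C}
    (hA : P A) : Orth M A := by
  refine ⟨hM.1 hA, fun h => ?_⟩
  let N := pullback h (cokernel.π (Injective.ι M))
  let i : M ⟶ N := pullback.lift 0 (Injective.ι M) (by simp)
  haveI hi : Mono i := mono_of_mono_fac (pullback.lift_snd _ _ _ : i ≫ pullback.snd _ _ = _)
  have hip : i ≫ pullback.fst h (cokernel.π (Injective.ι M)) = 0 := pullback.lift_fst _ _ _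
  have hS : (ShortComplex.mk i (pullback.fst h (cokernel.π (Injective.ι M))) hip).ShortExact := by
    haveI : Epi (pullback.fst h (cokernel.π (Injective.ι M))) := inferInstance
    refine ⟨ShortComplex.exact_of_f_is_kernel _ ?_⟩
    refine KernelFork.IsLimit.ofι' _ _ (fun {T} k hk => ?_)
    have hk' : (k ≫ pullback.snd _ _) ≫ cokernel.π (Injective.ι M) = 0 := by
      rw [Category.assoc, ← pullback.condition, ← Category.assoc, hk, zero_comp]
    refine ⟨Abelian.monoLift _ _ hk', pullback.hom_ext ?_ ?_⟩
    · show _ = _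
      rw [Category.assoc, hip, comp_zero, hk]
    · show _ = _
      rw [Category.assoc, pullback.lift_snd]
      exact Abelian.monoLift_comp _ _ _
  obtain ⟨⟨r, hr⟩⟩ := (hM.2 i _ hip hA hS)
  haveI := hS.epi_g
  have h0 : i ≫ (pullback.snd _ _ - r ≫ Injective.ι M) = 0 := by
    rw [Preadditive.comp_sub, pullback.lift_snd, ← Category.assoc, hr, Category.id_comp, sub_self]
  obtain ⟨g, hg⟩ := CokernelCofork.IsColimit.desc' hS.exact.gIsCokernel _ h0
  refine ⟨g, (cancel_epi (pullback.fst h (cokernel.π (Injective.ι M)))).1 ?_⟩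
  have hg' : pullback.fst h (cokernel.π (Injective.ι M)) ≫ g
      = pullback.snd _ _ - r ≫ Injective.ι M := hg
  rw [← Category.assoc, hg', Preadditive.sub_comp, Category.assoc, cokernel.condition, comp_zero,
    sub_zero, pullback.condition]

theorem isSplitMono_of_orth {M : C} {N Y : C} (i : M ⟶ N) (p : N ⟶ Y) (hp : i ≫ p = 0)
    (hY : Orth M Y) (hS : (ShortComplex.mk i p hp).ShortExact) : IsSplitMono i := by
  haveI : Mono i := hS.mono_f
  haveI : Epi p := hS.epi_g
  let g : N ⟶ Injective.under M := Injective.factorThru (Injective.ι M) i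
  have hg : i ≫ g = Injective.ι M := Injective.comp_factorThru _ _
  obtain ⟨h, hh⟩ := CokernelCofork.IsColimit.desc' hS.exact.gIsCokernel
    (g ≫ cokernel.π (Injective.ι M)) (by
      show i ≫ _ = 0
      rw [← Category.assoc, hg, cokernel.condition])
  have hh' : p ≫ h = g ≫ cokernel.π (Injective.ι M) := hh
  obtain ⟨h', hh''⟩ := hY.2 h
  have h0 : (g - p ≫ h') ≫ cokernel.π (Injective.ι M) = 0 := by
    rw [Preadditive.sub_comp, Category.assoc, hh'', hh', sub_self]
  refine IsSplitMono.mk' ⟨Abelian.monoLift _ _ h0, (cancel_mono (Injective.ι M)).1 ?_⟩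
  rw [Category.assoc, Abelian.monoLift_comp, Preadditive.comp_sub, hg, ← Category.assoc, hp,
    zero_comp, sub_zero, Category.id_comp]

/-- `Orth M` is closed under extensions. -/
theorem orth_of_coimage_of_cokernel {M A B : C} (u : B ⟶ A) (h₁ : Orth M (Abelian.coimage u))
    (h₂ : Orth M (cokernel u)) : Orth M A := by
  have key : ∀ {Z : C} (f : A ⟶ Z), Abelian.factorThruCoimage u ≫ f = 0 → u ≫ f = 0 := by
    intro Z f hf
    rw [← Abelian.coimage.fac u, Category.assoc, hf, comp_zero]
  refine ⟨fun f => ?_, fun h => ?_⟩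
  · rw [← cokernel.π_desc u f (key f (h₁.1 _)), h₂.1 (cokernel.desc u f _), comp_zero]
  · obtain ⟨g₁, hg₁⟩ := h₁.2 (Abelian.factorThruCoimage u ≫ h)
    let g := Injective.factorThru g₁ (Abelian.factorThruCoimage u)
    have h0 : Abelian.factorThruCoimage u ≫ (h - g ≫ cokernel.π (Injective.ι M)) = 0 := by
      rw [Preadditive.comp_sub, ← Category.assoc (Abelian.factorThruCoimage u) g,
        Injective.comp_factorThru, hg₁, sub_self]
    obtain ⟨g₂, hg₂⟩ := h₂.2 (cokernel.desc u _ (key _ h0))
    refine ⟨g + cokernel.π u ≫ g₂, ?_⟩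
    rw [Preadditive.add_comp, Category.assoc, hg₂, cokernel.π_desc, add_sub_cancel]

/-- All subquotients are orthogonal to `M`. -/
def Her (M : C) : ObjectProperty C := fun A =>
  ∀ ⦃B : C⦄ (i : B ⟶ A), Mono i → ∀ ⦃A' : C⦄ (p : B ⟶ A'), Epi p → Orth M A'

theorem Her.orth {M A : C} (h : Her M A) : Orth M A :=
  h (𝟙 A) inferInstance (𝟙 A) inferInstance

theorem le_her {P : ObjectProperty C} [P.IsClosedUnderSubobjects] [P.IsClosedUnderQuotients]
    {M : C} (hM : GabLoc.IsClosedFor P M) : P ≤ Her M := fun _ hA _ i hi _ p hp => by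
  haveI := hi; haveI := hp
  exact orth_of_isClosedFor hM (P.prop_of_epi p (P.prop_of_mono i hA))

theorem isClosedFor_of_le_her {P : ObjectProperty C} {M : C} (hP : P ≤ Her M) :
    GabLoc.IsClosedFor P M :=
  ⟨fun _ hY => (hP _ hY).orth.1, fun _ _ i p hp hY hS => isSplitMono_of_orth i p hp (hP _ hY).orth hS⟩

instance (M : C) : (Her M).ContainsZero :=
  ⟨⟨_, isZero_zero C, fun _ i hi _ p hp => by
    haveI := hi; haveI := hp
    have hA : IsZero _ := IsZero.of_epi p (IsZero.of_mono i (isZero_zero C))
    exact ⟨fun f => hA.eq_of_src _ _, fun h => ⟨0, hA.eq_of_src _ _⟩⟩⟩⟩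

instance (M : C) : (Her M).IsClosedUnderSubobjects :=
  ⟨fun f _ hY _ i hi _ p hp => by
    haveI := hi
    exact hY (i ≫ f) inferInstance p hp⟩

instance (M : C) : (Her M).IsClosedUnderQuotients :=
  ⟨fun f _ hX _ i hi _ p hp => by
    haveI := hi; haveI := hp
    exact hX (pullback.fst f i) inferInstance (pullback.snd f i ≫ p) inferInstance⟩

instance (M : C) : (Her M).IsClosedUnderExtensions := by
  refine ⟨fun {S} hS h₁ h₃ B i hi A' p hp => ?_⟩
  haveI := hi; haveI := hp
  haveI := hS.mono_f
  let v := i ≫ S.g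
  let u := kernel.ι v ≫ p
  refine orth_of_coimage_of_cokernel u ?_ ?_
  · have hk : (kernel.ι v ≫ i) ≫ S.g = 0 := by rw [Category.assoc]; exact kernel.condition v
    let l := hS.exact.lift _ hk
    haveI : Mono l := mono_of_mono_fac (hS.exact.lift_f _ hk)
    exact h₁ l inferInstance (Abelian.coimage.π u) inferInstance
  · let p' : Abelian.coimage v ⟶ cokernel u := cokernel.desc (kernel.ι v) (p ≫ cokernel.π u)
      (by rw [← Category.assoc]; exact cokernel.condition u)
    have hp' : Abelian.coimage.π v ≫ p' = p ≫ cokernel.π u := cokernel.π_desc _ _ _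
    haveI : Epi p' := epi_of_epi_fac hp'
    exact h₃ (Abelian.factorThruCoimage v) inferInstance p' inferInstance

instance (M : C) : (Her M).IsSerreClass where

theorem her_finsetSigma {M : C} {α : Type w} (F : Discrete α ⥤ C) (hF : ∀ a, Her M (F.obj a))
    (s : Finset (Discrete α)) :
    Her M ((CoproductsFromFiniteFiltered.liftToFinsetObj F).obj s) := by
  classical
  induction s using Finset.induction_on with
  | empty =>
    refine (Her M).prop_of_isZero ((IsZero.iff_id_eq_zero _).2 ?_)
    exact Sigma.hom_ext (f := fun x : ((∅ : Finset (Discrete α))) => F.obj x) _ _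
      fun x => absurd x.2 (Finset.notMem_empty _)
  | insert a s ha ih =>
    let G := CoproductsFromFiniteFiltered.liftToFinsetObj F
    let m : F.obj a ⊞ G.obj s ⟶ G.obj (insert a s) := biprod.desc
      (Sigma.ι (fun x : (insert a s : Finset (Discrete α)) => F.obj x) ⟨a, Finset.mem_insert_self a s⟩)
      (G.map (homOfLE (Finset.subset_insert a s)))
    haveI : Epi m := ⟨fun x y hxy => by
      refine Sigma.hom_ext (f := fun z : (insert a s : Finset (Discrete α)) => F.obj z) _ _ ?_
      rintro ⟨b, hb⟩
      rcases Finset.mem_insert.1 hb with rfl | hb'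
      · have := congrArg (fun t => biprod.inl ≫ t) hxy
        dsimp only [m] at this
        erw [biprod.inl_desc_assoc, biprod.inl_desc_assoc] at this
        exact this
      · have := congrArg
          (fun t => Sigma.ι (fun z : (s : Finset (Discrete α)) => F.obj z) ⟨b, hb'⟩ ≫ biprod.inr ≫ t) hxy
        dsimp only [m] at this
        erw [biprod.inr_desc_assoc, biprod.inr_desc_assoc] at this
        erw [Sigma.ι_desc_assoc, Sigma.ι_desc_assoc] at this
        exact this⟩
    refine (Her M).prop_of_epi m ?_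
    exact (Her M).prop_X₂_of_shortExact
      (ShortComplex.Splitting.ofHasBinaryBiproduct (F.obj a) (G.obj s)).shortExact (hF a) ih

theorem her_coproduct {M : C} {α : Type w} (X : α → C) (hX : ∀ a, Her M (X a)) : Her M (∐ X) := by
  intro B i hi A p hp
  haveI := hi; haveI := hp
  let G := CoproductsFromFiniteFiltered.liftToFinsetObj (Discrete.functor X)
  have hc := CoproductsFromFiniteFiltered.isColimitFiniteSubproductsCocone X
  -- every subobject of the coproduct has the two properties
  have main : ∀ {B : C} (i : B ⟶ ∐ X), Mono i → Orth M B := by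
    intro B i hi
    haveI := hi
    obtain ⟨K, k, d, hd, e, hk, -⟩ := exists_colimit_kernel hc (cokernel.π i)
    let eB : B ≅ d.pt := (IsLimit.conePointUniqueUpToIso
      (Abelian.monoIsKernelOfCokernel (CokernelCofork.ofπ (cokernel.π i) (cokernel.condition i))
        (cokernelIsCokernel i))
      (limit.isLimit (parallelPair (cokernel.π i) 0))) ≪≫ e.symm
    have hK : ∀ s, Orth M (K.obj s) := fun s => by
      haveI := hk s
      exact ((Her M).prop_of_mono (k.app s)
        (her_finsetSigma (Discrete.functor X) (fun a => hX a.as) s)).orth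
    refine ⟨fun f => ?_, fun h => ?_⟩
    · rw [← cancel_epi eB.inv, comp_zero]
      exact hd.hom_ext fun s => by rw [comp_zero]; exact (hK s).1 _
    · choose g hg using fun s => (hK s).2 (d.ι.app s ≫ eB.inv ≫ h)
      let cc : Cocone K := Cocone.mk (Injective.under M)
        { app := g
          naturality := fun s t a => by
            dsimp
            rw [Category.comp_id, ← sub_eq_zero]
            refine eq_zero_of_comp_π (hK s).1 _ ?_
            rw [Preadditive.sub_comp, Category.assoc, hg, hg, ← Category.assoc, d.w, sub_self] }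
      refine ⟨eB.hom ≫ hd.desc cc, (cancel_epi eB.inv).1 ?_⟩
      rw [Category.assoc, Iso.inv_hom_id_assoc]
      refine hd.hom_ext fun s => ?_
      rw [← Category.assoc, hd.fac]
      exact hg s
  obtain ⟨hB0, hB1⟩ := main i inferInstance
  refine ⟨fun f => (cancel_epi p).1 (by rw [hB0 (p ≫ f), comp_zero]), fun h => ?_⟩
  obtain ⟨g, hg⟩ := hB1 (p ≫ h)
  have h0 : kernel.ι p ≫ g = 0 := eq_zero_of_comp_π (main (kernel.ι p ≫ i) inferInstance).1 _ (by
    rw [Category.assoc, hg, ← Category.assoc, kernel.condition, zero_comp])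
  refine ⟨Abelian.epiDesc p g h0, (cancel_epi p).1 ?_⟩
  rw [← Category.assoc, Abelian.comp_epiDesc, hg]

theorem her_isLocalizing (M : C) : GabLoc.IsLocalizing.{w} (Her M) where
  isSerreClass := inferInstance
  isClosedUnderCoproducts J := by
    refine ⟨fun X hX => ?_⟩
    obtain ⟨pres⟩ := hX
    let m : (∐ fun j => pres.diag.obj ⟨j⟩) ⟶ X := Sigma.desc fun j => pres.ι.app ⟨j⟩
    haveI : Epi m := ⟨fun x y hxy => pres.isColimit.hom_ext fun j => by
      have := congrArg (fun t => Sigma.ι (fun j => pres.diag.obj ⟨j⟩) j.as ≫ t) hxy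
      simpa [m] using this⟩
    exact (Her M).prop_of_epi m (her_coproduct _ fun j => pres.prop_diag_obj ⟨j⟩)

theorem isClosedFor_locClosure {P : ObjectProperty C} {M : C} (hP : P ≤ Her M) :
    GabLoc.IsClosedFor (GabLoc.locClosure.{w} P) M :=
  isClosedFor_of_le_her fun _ hA => hA (Her M) (her_isLocalizing M) hP

end Groth.Agent.GabLocLib
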